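import Mathlib

/-!
# The support of a weight function on a minuscule module (abstract)

`W` a finite set of coordinates (weights), `R` a set of root labels acting on `W → F` by
`act r t c T = c T + σ r T * t * c (src r T)` if `on r T`, otherwise `c T`.
A function `n : (W → F) → ℕ` invariant under these operators and with the "`E0`" count `Σ_{c T ≠ 0} n c = (q-1) q^d m`
(`m ≤ 2`) is supported on the `orbit` of the highest weight vectors, constant `m` there, and
`Σ_{c ≠ 0} n c = m (q-1) Σ_S q^{ℓ S}`. The finite facts are fields of `Facts`, for `decide`. Compare `Lib/MinE6/Pure`.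
-/

set_option autoImplicit false
set_option linter.unusedSectionVars false
set_option linter.unusedVariables false

namespace Cfsg.Agent.Lib.PureAbs

open scoped Classical

variable {F : Type*} [Field F] {W R : Type*}

/-- The operators. -/
noncomputable def act (on : R → W → Prop) (src : R → W → W) (σ : R → W → F) (r : R) (t : F) (c : W → F) : W → F :=
  fun T => if on r T then c T + σ r T * t * c (src r T) else c T

/-- The finite facts on the weight system. `pr S` are the roots of the abelian radical at `S`, `tgt S r` the neighbour of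
`S` in direction `r`, `wd S X`: 3 if `X = S`, 2 on the neighbours, 1 at distance two, 0 at the opposite. -/
structure Facts (on : R → W → Prop) (src : R → W → W) (pr : W → List R) (tgt : W → R → W) (wd : W → W → ℕ)
    (side : W → W → List R) (d : ℕ) : Prop where
  inv : ∀ r T, on r T → ¬ on r (src r T)
  nodup : ∀ S, (pr S).Nodup
  length : ∀ S, (pr S).length = d
  on_tgt : ∀ S, ∀ r ∈ pr S, on r (tgt S r)
  src_tgt : ∀ S, ∀ r ∈ pr S, src r (tgt S r) = S
  not_on : ∀ S, ∀ r ∈ pr S, ¬ on r S
  crit : ∀ S, ∀ r ∈ pr S, ∀ r' ∈ pr S, on r' (tgt S r) → r' = r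
  wd_tgt : ∀ S, ∀ r ∈ pr S, wd S (tgt S r) = 2
  w2 : ∀ S X, wd S X = 2 → ∃ r ∈ pr S, X = tgt S r
  wd_cases : ∀ S T, T ≠ S → wd S T = 0 ∨ wd S T = 1 ∨ wd S T = 2
  side_nodup : ∀ S T, wd S T = 1 → (side S T).Nodup
  side_length : ∀ S T, wd S T = 1 → 2 ≤ (side S T).length
  side_pr : ∀ S T, wd S T = 1 → ∀ r ∈ side S T, r ∈ pr T
  side_S : ∀ S T, wd S T = 1 → ∀ r ∈ side S T, ¬ on r S
  side_X : ∀ S T, wd S T = 1 → ∀ r ∈ side S T, ∀ X, wd S X = 2 → on r X → wd S (src r X) = 2
  opp : ∀ S T, wd S T = 0 → ∃ r ∈ pr T, (on r S → wd S (src r S) = 2) ∧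
    (∀ X, wd S X = 2 → on r X → wd S (src r X) = 1) ∧ wd S (tgt T r) = 1

section

variable {on : R → W → Prop} {src : R → W → W} {σ : R → W → F} {pr : W → List R} {tgt : W → R → W}
  {wd : W → W → ℕ} {side : W → W → List R} {d : ℕ} {n : (W → F) → ℕ}

/-- The product in the order of the list. -/
noncomputable def psi (on : R → W → Prop) (src : R → W → W) (σ : R → W → F) (l : List R) (u : R → F) (c : W → F) : W → F :=
  l.foldr (fun r e => act on src σ r (u r) e) c

lemma act_not {r : R} {T : W} (h : ¬ on r T) (t : F) (c : W → F) : act on src σ r t c T = c T := by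
  unfold act
  rw [if_neg h]

lemma act_yes {r : R} {T : W} (h : on r T) (t : F) (c : W → F) :
    act on src σ r t c T = c T + σ r T * t * c (src r T) := by
  unfold act
  rw [if_pos h]

lemma act_act (hinv : ∀ r T, on r T → ¬ on r (src r T)) (r : R) (t : F) (c : W → F) :
    act on src σ r (-t) (act on src σ r t c) = c := by
  funext T
  by_cases h : on r T
  · rw [act_yes h, act_yes h, act_not (hinv r T h)]
    ring
  · rw [act_not h, act_not h]

lemma psi_cons (l : List R) (p : R) (u : R → F) (c : W → F) :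
    psi on src σ (p :: l) u c = act on src σ p (u p) (psi on src σ l u c) := rfl

lemma psi_S {S : W} {l : List R} (hl : ∀ p ∈ l, ¬ on p S) (u : R → F) (c : W → F) :
    psi on src σ l u c S = c S := by
  induction l with
  | nil => rfl
  | cons p l ih =>
    rw [psi_cons, act_not (hl p List.mem_cons_self), ih (fun q hq => hl q (List.mem_cons_of_mem _ hq))]

variable (hf : Facts on src pr tgt wd side d)
include hf

lemma psi_nb {S : W} {l : List R} (hn : l.Nodup) (hl : ∀ p ∈ l, p ∈ pr S) (u : R → F) (c : W → F)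
    {r : R} (hr : r ∈ pr S) :
    psi on src σ l u c (tgt S r) = c (tgt S r) + (if r ∈ l then σ r (tgt S r) * u r * c S else 0) := by
  induction l with
  | nil => simp [psi]
  | cons p l ih =>
    have hl' := fun q hq => hl q (List.mem_cons_of_mem _ hq)
    have hp := hl p List.mem_cons_self
    rw [List.nodup_cons] at hn
    rw [psi_cons]
    by_cases h : p = r
    · subst h
      rw [act_yes (hf.on_tgt S p hr), hf.src_tgt S p hr, ih hn.2 hl',
        psi_S (fun q hq => hf.not_on S q (hl' q hq)), if_neg hn.1, if_pos List.mem_cons_self]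
      ring
    · have hcr : ¬ on p (tgt S r) := fun h' => h (hf.crit S r hr p hp h')
      rw [act_not hcr, ih hn.2 hl']
      congr 1
      have : r ∈ p :: l ↔ r ∈ l := by
        rw [List.mem_cons]
        constructor
        · rintro (h' | h')
          · exact absurd h'.symm h
          · exact h'
        · exact Or.inr
      simp only [this]

/-- The coordinates next to `S` vanish. -/
def InvS (wd : W → W → ℕ) (S : W) (c : W → F) : Prop := ∀ X, wd S X = 2 → c X = 0

omit hf in
lemma sg_ne (hsg : ∀ r T, σ r T = 1 ∨ σ r T = -1) (r : R) (T : W) : σ r T ≠ 0 := by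
  rcases hsg r T with h | h <;> rw [h] <;> simp

lemma normal_form (hsg : ∀ r T, σ r T = 1 ∨ σ r T = -1) {S : W} {l : List R} (hn : l.Nodup)
    (hl : ∀ p ∈ l, p ∈ pr S) {c : W → F} (hc : c S ≠ 0) :
    ∃ u, ∀ r ∈ l, psi on src σ l u c (tgt S r) = 0 := by
  refine ⟨fun p => - c (tgt S p) / (σ p (tgt S p) * c S), ?_⟩
  intro r hr
  rw [psi_nb hf hn hl _ _ (hl r hr), if_pos hr]
  have h0 : σ r (tgt S r) ≠ 0 := sg_ne hsg _ _
  field_simp
  ring

omit hf in
lemma n_psi (hI : ∀ r t c, n c = n (act on src σ r t c)) (l : List R) (u : R → F) (c : W → F) :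
    n (psi on src σ l u c) = n c := by
  induction l with
  | nil => rfl
  | cons p l ih => rw [psi_cons, ← hI, ih]

omit hf in
lemma psi_rev (hinv : ∀ r T, on r T → ¬ on r (src r T)) (l : List R) (u : R → F) (c : W → F) :
    psi on src σ l (fun p => - u p) (psi on src σ l.reverse u c) = c := by
  induction l generalizing c with
  | nil => rfl
  | cons p l ih =>
    have h1 : psi on src σ (p :: l).reverse u c = psi on src σ l.reverse u (act on src σ p (u p) c) := by
      simp [psi, List.foldr_append]
    rw [h1, psi_cons, ih]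
    exact act_act hinv _ _ _

omit hf in
lemma psi_rev' (hinv : ∀ r T, on r T → ¬ on r (src r T)) (l : List R) (u : R → F) (c : W → F) :
    psi on src σ l.reverse (fun p => - u p) (psi on src σ l u c) = c := by
  have := psi_rev (σ := σ) hinv l.reverse u c
  simpa using this

omit hf in
lemma psi_inj (hinv : ∀ r T, on r T → ¬ on r (src r T)) (l : List R) (u : R → F) :
    Function.Injective (psi on src σ l u) := by
  intro c e h
  rw [← psi_rev' (σ := σ) hinv l u c, h, psi_rev' hinv]

omit hf in
lemma psi_congr {l : List R} {u v : R → F} (h : ∀ p ∈ l, u p = v p) (c : W → F) :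
    psi on src σ l u c = psi on src σ l v c := by
  induction l with
  | nil => rfl
  | cons p l ih =>
    rw [psi_cons, psi_cons, h p List.mem_cons_self, ih (fun q hq => h q (List.mem_cons_of_mem _ hq))]

omit hf in
lemma psi_same {S : W} {l : List R} (hl : ∀ p ∈ l, ∀ X, wd S X = 2 → on p X → wd S (src p X) = 2) (u : R → F)
    {c : W → F} (h : InvS wd S c) : InvS wd S (psi on src σ l u c) := by
  induction l with
  | nil => exact h
  | cons p l ih =>
    intro X hX
    have ih' := ih (fun q hq => hl q (List.mem_cons_of_mem _ hq))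
    have hp := hl p List.mem_cons_self
    rw [psi_cons]
    by_cases hh : on p X
    · rw [act_yes hh, ih' X hX, ih' (src p X) (hp X hX hh)]
      ring
    · rw [act_not hh, ih' X hX]

omit hf in
/-- Extension by zero. -/
noncomputable def ext {β : Type*} (l : List R) (v : {p // p ∈ l} → β) [Zero β] : R → β :=
  fun p => if h : p ∈ l then v ⟨p, h⟩ else 0

omit hf in
lemma ext_mem {l : List R} (v : {p // p ∈ l} → F) {p : R} (h : p ∈ l) : ext l v p = v ⟨p, h⟩ := by
  unfold ext
  rw [dif_pos h]

end

variable [Fintype F] [Fintype W] [DecidableEq W]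

lemma count_ge {n : (W → F) → ℕ} {α : Type*} [Fintype α] (G : α → (W → F)) (hinj : Function.Injective G)
    (Q : (W → F) → Prop) [DecidablePred Q] (hQ : ∀ a, Q (G a) ∧ 0 < n (G a)) :
    Fintype.card α ≤ ∑ c : W → F, (if Q c then n c else 0) := by
  calc Fintype.card α = ∑ _a : α, 1 := by simp
    _ ≤ ∑ a : α, (if Q (G a) then n (G a) else 0) := by
        apply Finset.sum_le_sum
        intro a _
        rw [if_pos (hQ a).1]
        exact (hQ a).2
    _ = ∑ c ∈ Finset.univ.image G, (if Q c then n c else 0) := by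
        rw [Finset.sum_image (fun x _ y _ h => hinj h)]
    _ ≤ _ := by
        apply Finset.sum_le_sum_of_subset
        exact Finset.subset_univ _

lemma sum_param {n : (W → F) → ℕ} {α : Type*} [Fintype α] (G : α → (W → F)) (hinj : Function.Injective G)
    (Q : (W → F) → Prop) [DecidablePred Q] (hQ : ∀ a, Q (G a)) (hS : ∀ c, Q c → 0 < n c → ∃ a, G a = c) :
    ∑ c : W → F, (if Q c then n c else 0) = ∑ a : α, n (G a) := by
  calc ∑ c : W → F, (if Q c then n c else 0) = ∑ c ∈ Finset.univ.image G, (if Q c then n c else 0) := by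
        symm
        apply Finset.sum_subset (Finset.subset_univ _)
        intro c _ hc
        by_cases h : Q c
        · rw [if_pos h]
          by_contra h0
          obtain ⟨a, ha⟩ := hS c h (Nat.pos_of_ne_zero h0)
          exact hc (Finset.mem_image.mpr ⟨a, Finset.mem_univ _, ha⟩)
        · rw [if_neg h]
    _ = ∑ a : α, (if Q (G a) then n (G a) else 0) := by
        rw [Finset.sum_image (fun x _ y _ h => hinj h)]
    _ = _ := by
        apply Finset.sum_congr rfl
        intro a _
        rw [if_pos (hQ a)]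

lemma card_q {R : Type*} [DecidableEq R] (l : List R) (hl : l.Nodup) :
    Fintype.card ({p // p ∈ l} → F) = Fintype.card F ^ l.length := by
  rw [Fintype.card_fun, Fintype.card_of_subtype l.toFinset (by simp), List.toFinset_card_of_nodup hl]

lemma two_le_q : 2 ≤ Fintype.card F := Fintype.one_lt_card

section

variable [DecidableEq R] {on : R → W → Prop} {src : R → W → W} {σ : R → W → F} {pr : W → List R} {tgt : W → R → W}
  {wd : W → W → ℕ} {side : W → W → List R} {d : ℕ} {n : (W → F) → ℕ}

lemma key_w1 (hf : Facts on src pr tgt wd side d) (hsg : ∀ r T, σ r T = 1 ∨ σ r T = -1)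
    (hI : ∀ r t c, n c = n (act on src σ r t c)) 
    (hB : ∀ T : W, ∑ c : W → F, (if c T ≠ 0 then n c else 0) < Fintype.card F ^ d * Fintype.card F ^ 2)
    {S T : W} {c : W → F} (hS : c S ≠ 0) (hinv : InvS wd S c) (hT : wd S T = 1) (hcT : c T ≠ 0) (hpos : 0 < n c) :
    False := by
  have hl9 : ∀ p ∈ pr S, p ∈ pr S := fun p hp => hp
  have hl4 := hf.side_pr S T hT
  have hnd9 := hf.nodup S
  have hnd4 := hf.side_nodup S T hT
  let D : ({p // p ∈ side S T} → F) → (W → F) := fun t => psi on src σ (side S T) (ext _ t) c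
  let G : ({p // p ∈ pr S} → F) × ({p // p ∈ side S T} → F) → (W → F) :=
    fun x => psi on src σ (pr S) (ext _ x.1) (D x.2)
  have hDS : ∀ t, D t S = c S := fun t => psi_S (hf.side_S S T hT) _ _
  have hDinv : ∀ t, InvS wd S (D t) := fun t => psi_same (hf.side_X S T hT) _ hinv
  have hGS : ∀ x, G x S = c S := fun x => by
    change psi on src σ (pr S) (ext _ x.1) (D x.2) S = c S
    rw [psi_S (hf.not_on S), hDS]
  have hGn : ∀ x, n (G x) = n c := fun x => by
    change n (psi on src σ (pr S) (ext _ x.1) (D x.2)) = n c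
    rw [n_psi hI, n_psi hI]
  have hinj : Function.Injective G := by
    rintro ⟨u, t⟩ ⟨u', t'⟩ h
    have hu : u = u' := by
      funext ⟨p, hp⟩
      have e := congrFun h (tgt S p)
      simp only [G] at e
      rw [psi_nb hf hnd9 hl9 _ _ hp, psi_nb hf hnd9 hl9 _ _ hp, if_pos hp, if_pos hp,
        hDinv t _ (hf.wd_tgt S p hp), hDinv t' _ (hf.wd_tgt S p hp), hDS, hDS, zero_add, zero_add] at e
      have h0 := sg_ne hsg p (tgt S p)
      have e2 : ext (pr S) u p = ext (pr S) u' p := mul_left_cancel₀ h0 (mul_right_cancel₀ hS e)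
      rwa [ext_mem u hp, ext_mem u' hp] at e2
    subst hu
    have hD : D t = D t' := psi_inj hf.inv _ _ h
    have ht : t = t' := by
      funext ⟨p, hp⟩
      have e := congrFun hD (tgt T p)
      simp only [D] at e
      rw [psi_nb hf hnd4 hl4 _ _ (hl4 p hp), psi_nb hf hnd4 hl4 _ _ (hl4 p hp), if_pos hp, if_pos hp] at e
      have e' := add_left_cancel e
      have h0 := sg_ne hsg p (tgt T p)
      have e2 : ext (side S T) t p = ext (side S T) t' p := mul_left_cancel₀ h0 (mul_right_cancel₀ hcT e')
      rwa [ext_mem t hp, ext_mem t' hp] at e2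
    rw [ht]
  have hle : Fintype.card (({p // p ∈ pr S} → F) × ({p // p ∈ side S T} → F)) ≤
      ∑ c : W → F, (if c S ≠ 0 then n c else 0) := count_ge (n := n) G hinj (fun e => e S ≠ 0) (fun x => ⟨by
    show G x S ≠ 0
    rw [hGS]; exact hS, by rw [hGn]; exact hpos⟩)
  rw [Fintype.card_prod, card_q _ hnd9, card_q _ hnd4, hf.length S] at hle
  have hq := two_le_q (F := F)
  have h7 : Fintype.card F ^ d * Fintype.card F ^ 2 ≤ Fintype.card F ^ d * Fintype.card F ^ (side S T).length :=
    Nat.mul_le_mul_left _ (Nat.pow_le_pow_right (by omega) (hf.side_length S T hT))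
  have := hB S
  omega

/-- A vector with a nonzero `S`-coordinate, and vanishing neighbours, is supported on `S`. -/
lemma key (hf : Facts on src pr tgt wd side d) (hsg : ∀ r T, σ r T = 1 ∨ σ r T = -1)
    (hI : ∀ r t c, n c = n (act on src σ r t c)) 
    (hB : ∀ T : W, ∑ c : W → F, (if c T ≠ 0 then n c else 0) < Fintype.card F ^ d * Fintype.card F ^ 2)
    {S : W} {c : W → F} (hS : c S ≠ 0) (hinv : InvS wd S c) (hpos : 0 < n c) : ∀ T, T ≠ S → c T = 0 := by
  intro T hTS
  by_contra hcT
  rcases hf.wd_cases S T hTS with h0 | h1 | h2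
  · by_cases hX : ∃ X, wd S X = 1 ∧ c X ≠ 0
    · obtain ⟨X, hX1, hX2⟩ := hX
      exact key_w1 hf hsg hI hB hS hinv hX1 hX2 hpos
    · push Not at hX
      obtain ⟨r, hr, hopS, hopX, hopT⟩ := hf.opp S T h0
      let e := act on src σ r 1 c
      have heS : e S ≠ 0 := by
        have : e S = c S := by
          simp only [e]
          by_cases hh : on r S
          · rw [act_yes hh, hinv _ (hopS hh)]
            ring
          · rw [act_not hh]
        rw [this]
        exact hS
      have heinv : InvS wd S e := by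
        intro X hX2
        simp only [e]
        by_cases hh : on r X
        · rw [act_yes hh, hinv X hX2, hX _ (hopX X hX2 hh)]
          ring
        · rw [act_not hh, hinv X hX2]
      have heT : e (tgt T r) ≠ 0 := by
        simp only [e]
        rw [act_yes (hf.on_tgt T r hr), hf.src_tgt T r hr, hX _ hopT, zero_add]
        exact mul_ne_zero (mul_ne_zero (sg_ne hsg _ _) one_ne_zero) hcT
      have hen : 0 < n e := by
        have : n c = n e := hI r 1 c
        rw [← this]
        exact hpos
      exact key_w1 hf hsg hI hB heS heinv hopT heT hen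
  · exact key_w1 hf hsg hI hB hS hinv h1 hcT hpos
  · exact hcT (hinv T h2)

/-- The support of `n`, clearing only the coordinates of `L`. -/
theorem support (hf : Facts on src pr tgt wd side d) (hsg : ∀ r T, σ r T = 1 ∨ σ r T = -1)
    (hI : ∀ r t c, n c = n (act on src σ r t c)) 
    (hB : ∀ T : W, ∑ c : W → F, (if c T ≠ 0 then n c else 0) < Fintype.card F ^ d * Fintype.card F ^ 2)
    {S : W} {L : List R} (hL : ∀ r ∈ L, r ∈ pr S) (hnd : L.Nodup) {c : W → F} (hS : c S ≠ 0)
    (hpos : 0 < n c) (hv : ∀ r ∈ pr S, r ∉ L → c (tgt S r) = 0) : ∃ u, c = psi on src σ L u (Pi.single S (c S)) := by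
  have hlr : ∀ p ∈ L.reverse, p ∈ pr S := fun p hp => hL p (List.mem_reverse.mp hp)
  have hndr : L.reverse.Nodup := List.nodup_reverse.mpr hnd
  obtain ⟨u, hu⟩ := normal_form (σ := σ) hf hsg hndr hlr hS
  have hdS : psi on src σ L.reverse u c S = c S := psi_S (fun p hp => hf.not_on S p (hlr p hp)) _ _
  have hinv : InvS wd S (psi on src σ L.reverse u c) := by
    intro X hX
    obtain ⟨r, hr, rfl⟩ := hf.w2 S X hX
    by_cases hrL : r ∈ L
    · exact hu r (List.mem_reverse.mpr hrL)
    · rw [psi_nb hf hndr hlr _ _ hr, if_neg (fun h => hrL (List.mem_reverse.mp h)), hv r hr hrL, add_zero]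
  have h1 := key (c := psi on src σ L.reverse u c) hf hsg hI hB (by rw [hdS]; exact hS) hinv
    (by rw [n_psi hI]; exact hpos)
  have h2 : psi on src σ L.reverse u c = Pi.single S (c S) := by
    funext T
    by_cases h : T = S
    · subst h
      rw [hdS]
      simp
    · rw [h1 T h, Pi.single_eq_of_ne h]
  refine ⟨fun p => - u p, ?_⟩
  rw [← h2]
  exact (psi_rev hf.inv _ u c).symm

lemma card_ne : Fintype.card {a : F // a ≠ 0} = Fintype.card F - 1 := by
  rw [Fintype.card_subtype_compl]
  simp

/-- The orbit map. -/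
noncomputable def Gf (on : R → W → Prop) (src : R → W → W) (σ : R → W → F) (S : W) (L : List R)
    (x : {a : F // a ≠ 0} × ({p // p ∈ L} → F)) : W → F :=
  psi on src σ L (ext _ x.2) (Pi.single S x.1.1)

/-- The sum over the orbit. -/
theorem fibre (hf : Facts on src pr tgt wd side d) (hsg : ∀ r T, σ r T = 1 ∨ σ r T = -1)
    (hI : ∀ r t c, n c = n (act on src σ r t c))
    (hsingle : ∀ (S : W) (a : F), a ≠ 0 → n (Pi.single S a) = n (Pi.single S 1))
    {S : W} {L : List R} (hL : ∀ r ∈ L, r ∈ pr S) (hnd : L.Nodup) (Q : (W → F) → Prop) [DecidablePred Q]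
    (hQ : ∀ x, Q (Gf on src σ S L x)) (hs : ∀ c, Q c → 0 < n c → ∃ x, Gf on src σ S L x = c) :
    ∑ c : W → F, (if Q c then n c else 0) = (Fintype.card F - 1) * Fintype.card F ^ L.length * n (Pi.single S 1) := by
  have hinj : Function.Injective (Gf on src σ S L) := by
    rintro ⟨⟨a, ha⟩, u⟩ ⟨⟨a', ha'⟩, u'⟩ h
    have e0 : a = a' := by
      have := congrFun h S
      simp only [Gf] at this
      rw [psi_S (fun p hp => hf.not_on S p (hL p hp)), psi_S (fun p hp => hf.not_on S p (hL p hp))] at this
      simpa using this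
    subst e0
    have hu : u = u' := by
      funext ⟨p, hp⟩
      have e := congrFun h (tgt S p)
      simp only [Gf] at e
      rw [psi_nb hf hnd hL _ _ (hL p hp), psi_nb hf hnd hL _ _ (hL p hp), if_pos hp, if_pos hp] at e
      have e' := add_left_cancel e
      simp only [Pi.single_eq_same] at e'
      have h0 := sg_ne hsg p (tgt S p)
      have e2 : ext L u p = ext L u' p := mul_left_cancel₀ h0 (mul_right_cancel₀ ha e')
      rwa [ext_mem u hp, ext_mem u' hp] at e2
    rw [hu]
  have hGn : ∀ x, n (Gf on src σ S L x) = n (Pi.single S 1) := fun x => by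
    simp only [Gf]
    rw [n_psi hI, hsingle S _ x.1.2]
  rw [sum_param (n := n) (Gf on src σ S L) hinj Q hQ hs]
  simp only [hGn, Finset.sum_const, Finset.card_univ, smul_eq_mul]
  rw [Fintype.card_prod, card_ne, card_q _ hnd]

/-- `c` is in the image of the orbit map. -/
lemma surj_of (hf : Facts on src pr tgt wd side d) (hsg : ∀ r T, σ r T = 1 ∨ σ r T = -1)
    (hI : ∀ r t c, n c = n (act on src σ r t c)) 
    (hB : ∀ T : W, ∑ c : W → F, (if c T ≠ 0 then n c else 0) < Fintype.card F ^ d * Fintype.card F ^ 2)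
    {S : W} {L : List R} (hL : ∀ r ∈ L, r ∈ pr S) (hnd : L.Nodup) {c : W → F} (hS : c S ≠ 0)
    (hpos : 0 < n c) (hv : ∀ r ∈ pr S, r ∉ L → c (tgt S r) = 0) : ∃ x, Gf on src σ S L x = c := by
  obtain ⟨u, hu⟩ := support hf hsg hI hB hL hnd hS hpos hv
  refine ⟨(⟨c S, hS⟩, fun p => u p.1), ?_⟩
  simp only [Gf]
  rw [psi_congr (v := u) (fun p hp => ext_mem _ hp)]
  exact hu.symm

/-- The first part: the value on the highest weight vectors. `hsingle`: torus. -/
theorem n_single_eq (hf : Facts on src pr tgt wd side d) (hsg : ∀ r T, σ r T = 1 ∨ σ r T = -1)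
    (hI : ∀ r t c, n c = n (act on src σ r t c)) 
    (hB : ∀ T : W, ∑ c : W → F, (if c T ≠ 0 then n c else 0) < Fintype.card F ^ d * Fintype.card F ^ 2) {m : ℕ}
    (hE : ∀ T : W, ∑ c : W → F, (if c T ≠ 0 then n c else 0) = (Fintype.card F - 1) * Fintype.card F ^ d * m)
    (hsingle : ∀ (S : W) (a : F), a ≠ 0 → n (Pi.single S a) = n (Pi.single S 1))
    (S : W) {a : F} (ha : a ≠ 0) : n (Pi.single S a) = m := by
  have hl : ∀ r ∈ pr S, r ∈ pr S := fun _ h => h
  have hsum := fibre hf hsg hI hsingle hl (hf.nodup S) (fun e : W → F => e S ≠ 0)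
    (fun x => by
      simp only [Gf]
      rw [psi_S (fun p hp => hf.not_on S p hp)]
      simpa using x.1.2)
    (fun c hc hp => surj_of hf hsg hI hB hl (hf.nodup S) hc hp (fun r hr h => absurd hr h))
  rw [hE S, hf.length S] at hsum
  have hq := two_le_q (F := F)
  have h9 : 0 < (Fintype.card F - 1) * Fintype.card F ^ d := by
    apply Nat.mul_pos
    · omega
    · positivity
  rw [hsingle S a ha]
  exact (Nat.eq_of_mul_eq_mul_left h9 hsum).symm

omit [DecidableEq R] in
lemma bound_of_E {m : ℕ} (hm2 : m ≤ 2)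
    (hE : ∀ T : W, ∑ c : W → F, (if c T ≠ 0 then n c else 0) = (Fintype.card F - 1) * Fintype.card F ^ d * m) (T : W) :
    ∑ c : W → F, (if c T ≠ 0 then n c else 0) < Fintype.card F ^ d * Fintype.card F ^ 2 := by
  rw [hE T]
  have hq := two_le_q (F := F)
  set q := Fintype.card F with hqd
  have h9 : 0 < q ^ d := by positivity
  have h5 : (q - 1) * m ≤ (q - 1) * 2 := Nat.mul_le_mul_left _ hm2
  have h6 : (q - 1) * 2 < q * 2 := by
    apply Nat.mul_lt_mul_of_pos_right <;> omega
  have h8 : q * 2 ≤ q * q := Nat.mul_le_mul_left _ hq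
  have h10 : q ^ 2 = q * q := by ring
  have h11 : (q - 1) * m < q ^ 2 := by omega
  calc (q - 1) * q ^ d * m = q ^ d * ((q - 1) * m) := by ring
    _ < q ^ d * q ^ 2 := Nat.mul_lt_mul_of_pos_left h11 h9

end

/-- The count, with a rank function: `pos r` are the roots raising the rank. -/
structure RankFacts [DecidableEq R] (on : R → W → Prop) (src : R → W → W) (pr : W → List R) (tgt : W → R → W)
    (rk : W → ℕ) (pos : R → Prop) : Prop where
  rk_inj : ∀ T T', rk T = rk T' → T = T'
  rk_pos : ∀ r T, pos r → on r T → rk T < rk (src r T)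
  rk_neg : ∀ S, ∀ r ∈ pr S, ¬ pos r → rk S < rk (tgt S r)

section

variable [DecidableEq R] {on : R → W → Prop} {src : R → W → W} {σ : R → W → F} {pr : W → List R} {tgt : W → R → W}
  {wd : W → W → ℕ} {side : W → W → List R} {d : ℕ} {n : (W → F) → ℕ} {rk : W → ℕ} {pos : R → Prop}

/-- `S` is the top coordinate of `c`. -/
def IsTop (rk : W → ℕ) (c : W → F) (S : W) : Prop := c S ≠ 0 ∧ ∀ T, c T ≠ 0 → rk T ≤ rk S

lemma exists_unique_top (hrk : ∀ T T', rk T = rk T' → T = T') {c : W → F} (hc : c ≠ 0) : ∃! S, IsTop rk c S := by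
  obtain ⟨T0, hT0⟩ : ∃ T, c T ≠ 0 := by
    by_contra h
    push Not at h
    exact hc (funext h)
  obtain ⟨S, hS, hmax⟩ := Finset.exists_max_image (Finset.univ.filter fun T => c T ≠ 0) rk ⟨T0, by simp [hT0]⟩
  refine ⟨S, ⟨(Finset.mem_filter.1 hS).2, fun T hT => hmax T (by simp [hT])⟩, ?_⟩
  rintro S' ⟨h1, h2⟩
  apply hrk
  exact le_antisymm (hmax S' (by simp [h1])) (h2 S (Finset.mem_filter.1 hS).2)

lemma low_top (hrk : RankFacts on src pr tgt rk pos) {S : W} (u : R → F) (a : F) {l : List R} (hl : ∀ r ∈ l, pos r) :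
    ∀ X, psi on src σ l u (Pi.single S a) X ≠ 0 → rk X ≤ rk S := by
  induction l with
  | nil =>
    intro X hX
    by_cases h : X = S
    · rw [h]
    · exact absurd (by simp [psi, h]) hX
  | cons r l ih =>
    have ih' := ih (fun q hq => hl q (List.mem_cons_of_mem _ hq))
    intro X hX
    rw [psi_cons] at hX
    by_cases hh : on r X
    · rw [act_yes hh] at hX
      by_cases h0 : psi on src σ l u (Pi.single S a) X = 0
      · rw [h0, zero_add] at hX
        have h3 : psi on src σ l u (Pi.single S a) (src r X) ≠ 0 := by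
          intro h'
          rw [h'] at hX
          simp at hX
        exact (hrk.rk_pos r X (hl r List.mem_cons_self) hh).le.trans (ih' _ h3)
      · exact ih' X h0
    · rw [act_not hh] at hX
      exact ih' X hX

/-- The count. -/
theorem count_abs [DecidablePred pos] (hf : Facts on src pr tgt wd side d) (hrk : RankFacts on src pr tgt rk pos)
    (hsg : ∀ r T, σ r T = 1 ∨ σ r T = -1) (hI : ∀ r t c, n c = n (act on src σ r t c))
    (hB : ∀ T : W, ∑ c : W → F, (if c T ≠ 0 then n c else 0) < Fintype.card F ^ d * Fintype.card F ^ 2) {m : ℕ}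
    (h1 : ∀ (T : W) (a : F), a ≠ 0 → n (Pi.single T a) = m) :
    ∑ c : W → F, (if c ≠ 0 then n c else 0) =
      m * ((Fintype.card F - 1) * ∑ S : W, Fintype.card F ^ ((pr S).filter fun r => decide (pos r)).length) := by
  have hsingle : ∀ (S : W) (a : F), a ≠ 0 → n (Pi.single S a) = n (Pi.single S 1) := fun S a ha => by
    rw [h1 S a ha, h1 S 1 one_ne_zero]
  have e : ∀ c : W → F, (if c ≠ 0 then n c else 0) = ∑ S : W, (if IsTop rk c S then n c else 0) := by
    intro c
    by_cases hc : c = 0
    · subst hc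
      simp [IsTop]
    · rw [if_pos hc]
      obtain ⟨S, hS, huniq⟩ := exists_unique_top hrk.rk_inj hc
      rw [Finset.sum_eq_single S (fun T _ hT => if_neg (fun h => hT (huniq T h))) (fun h => absurd (Finset.mem_univ S) h),
        if_pos hS]
  simp_rw [e]
  rw [Finset.sum_comm]
  have h2 : ∀ S : W, ∑ c : W → F, (if IsTop rk c S then n c else 0) =
      m * ((Fintype.card F - 1) * Fintype.card F ^ ((pr S).filter fun r => decide (pos r)).length) := by
    intro S
    have hL : ∀ r ∈ (pr S).filter (fun r => decide (pos r)), r ∈ pr S := fun r hr => (List.mem_filter.mp hr).1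
    have hpos : ∀ r ∈ (pr S).filter (fun r => decide (pos r)), pos r := fun r hr => by
      simpa using (List.mem_filter.mp hr).2
    have hnd : ((pr S).filter fun r => decide (pos r)).Nodup := (hf.nodup S).filter _
    have := fibre hf hsg hI (fun S a ha => hsingle S a ha) hL hnd (fun e : W → F => IsTop rk e S)
      (fun x => by
        refine ⟨?_, fun T hT => low_top hrk _ _ hpos T hT⟩
        simp only [Gf]
        rw [psi_S (fun p hp => hf.not_on S p (hL p hp))]
        simpa using x.1.2)
      (fun c hc hp => surj_of hf hsg hI hB hL hnd hc.1 hp (fun r hr hrL => by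
        have hnp : ¬ pos r := fun h => hrL (List.mem_filter.mpr ⟨hr, by simpa using h⟩)
        by_contra h0
        exact absurd (hc.2 _ h0) (not_le.mpr (hrk.rk_neg S r hr hnp))))
    rw [this, h1 S 1 one_ne_zero]
    ring
  simp_rw [h2]
  rw [← Finset.mul_sum, ← Finset.mul_sum]

/-- The main theorem, case `Pure8`. -/
theorem pure_abs [DecidablePred pos] (hf : Facts on src pr tgt wd side d) (hrk : RankFacts on src pr tgt rk pos)
    (hsg : ∀ r T, σ r T = 1 ∨ σ r T = -1) (hI : ∀ r t c, n c = n (act on src σ r t c)) {m : ℕ} (hm2 : m ≤ 2)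
    (hE : ∀ T : W, ∑ c : W → F, (if c T ≠ 0 then n c else 0) = (Fintype.card F - 1) * Fintype.card F ^ d * m)
    (hsingle : ∀ (S : W) (a : F), a ≠ 0 → n (Pi.single S a) = n (Pi.single S 1)) :
    (∀ (T : W) (a : F), a ≠ 0 → n (Pi.single T a) = m) ∧
    ∑ c : W → F, (if c ≠ 0 then n c else 0) =
      m * ((Fintype.card F - 1) * ∑ S : W, Fintype.card F ^ ((pr S).filter fun r => decide (pos r)).length) := by
  have hB := bound_of_E (n := n) hm2 hE
  have h1 : ∀ (T : W) (a : F), a ≠ 0 → n (Pi.single T a) = m := fun T a ha =>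
    n_single_eq hf hsg hI hB hE hsingle T ha
  exact ⟨h1, count_abs hf hrk hsg hI hB h1⟩

/-- The main theorem, case `Pure7`: the value is positive if `n` does not vanish off `0`. `htr` : the value does not depend on the point. -/
theorem pure_abs7 [DecidablePred pos] (hf : Facts on src pr tgt wd side d) (hrk : RankFacts on src pr tgt rk pos)
    (hsg : ∀ r T, σ r T = 1 ∨ σ r T = -1) (hI : ∀ r t c, n c = n (act on src σ r t c))
    (hB : ∀ T : W, ∑ c : W → F, (if c T ≠ 0 then n c else 0) < Fintype.card F ^ d * Fintype.card F ^ 2)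
    (hsingle : ∀ (S : W) (a : F), a ≠ 0 → n (Pi.single S a) = n (Pi.single S 1))
    (htr : ∀ S T : W, n (Pi.single S 1) = n (Pi.single T 1))
    (hex : ∃ c : W → F, c ≠ 0 ∧ 0 < n c) :
    ∃ m, 0 < m ∧ (∀ (T : W) (a : F), a ≠ 0 → n (Pi.single T a) = m) ∧
    ∑ c : W → F, (if c ≠ 0 then n c else 0) =
      m * ((Fintype.card F - 1) * ∑ S : W, Fintype.card F ^ ((pr S).filter fun r => decide (pos r)).length) := by
  obtain ⟨c, hc, hpos⟩ := hex
  obtain ⟨S, hS⟩ : ∃ S, c S ≠ 0 := by
    by_contra h
    push Not at h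
    exact hc (funext h)
  have hl : ∀ r ∈ pr S, r ∈ pr S := fun _ h => h
  obtain ⟨u, hu⟩ := support hf hsg hI hB hl (hf.nodup S) hS hpos (fun r hr h => absurd hr h)
  have hm : 0 < n (Pi.single S 1) := by
    rw [← hsingle S _ hS, ← n_psi (σ := σ) (l := pr S) (u := u) hI, ← hu]
    exact hpos
  have h1 : ∀ (T : W) (a : F), a ≠ 0 → n (Pi.single T a) = n (Pi.single S 1) := fun T a ha => by
    rw [hsingle T a ha, htr T S]
  exact ⟨_, hm, h1, count_abs hf hrk hsg hI hB h1⟩

end

end Cfsg.Agent.Lib.PureAbs
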